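import Groth.Agent.ProjInter.Affine
import Groth.Agent.Unibranch.Chains
import Groth.Prelude.Def_CohB1
import Mathlib.RingTheory.GradedAlgebra.Radical
import Mathlib.AlgebraicGeometry.ProjectiveSpectrum.Topology

/-! The projective dimension theorem. -/

set_option autoImplicit false
set_option maxHeartbeats 1000000
set_option backward.isDefEq.respectTransparency false

universe u

open MvPolynomial AlgebraicGeometry

noncomputable section

namespace Groth.Agent.ProjInter

theorem le_H {R : Type u} [CommRing R] (I M : Ideal R) [M.IsPrime] (hIM : I ≤ M) (s : LTSeries (PrimeSpectrum R))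
    (hI : I ≤ s.head.asIdeal) (hM : s.last.asIdeal ≤ M) : (s.length : ℕ∞) ≤ H I M := by
  haveI : (M.map (Ideal.Quotient.mk I)).IsPrime := Ideal.isPrime_map_quotientMk_of_isPrime hIM
  have hle : ∀ i, I ≤ (s i).asIdeal := fun i => hI.trans (LTSeries.monotone s (Fin.zero_le i))
  let t : LTSeries (PrimeSpectrum (R ⧸ I)) :=
    { length := s.length
      toFun := fun i => ⟨(s i).asIdeal.map (Ideal.Quotient.mk I), Ideal.isPrime_map_quotientMk_of_isPrime (hle i)⟩
      step := fun i => by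
        have h : (s i.castSucc).asIdeal < (s i.succ).asIdeal := s.step i
        refine lt_of_le_of_ne (Ideal.map_mono h.le) fun he => h.ne ?_
        have he' := congrArg (Ideal.comap (Ideal.Quotient.mk I)) he
        simp only [Ideal.comap_map_of_surjective _ Ideal.Quotient.mk_surjective] at he'
        rw [show Ideal.comap (Ideal.Quotient.mk I) ⊥ = I from Ideal.mk_ker] at he'
        rwa [sup_of_le_left (hle _), sup_of_le_left (hle _)] at he' }
  refine le_of_le_of_eq (Order.length_le_height (p := t)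
    (x := ⟨M.map (Ideal.Quotient.mk I), inferInstance⟩) (show _ ≤ M.map (Ideal.Quotient.mk I) from Ideal.map_mono hM))
    (PrimeSpectrum.height_eq_orderHeight ⟨M.map (Ideal.Quotient.mk I), inferInstance⟩).symm

theorem H_self {R : Type u} [CommRing R] (M : Ideal R) [M.IsPrime] : H M M = 0 := by
  rw [H, Ideal.map_quotient_self, Ideal.height_bot]

variable {k : Type u} [Field k] {n : ℕ}

local notation "𝒜" => CohB1.polyGrading n k
local notation "MM" => orig k (Fin (n + 1))

theorem proj_zero (a : MvPolynomial (Fin (n + 1)) k) : GradedRing.proj 𝒜 0 a = C (constantCoeff a) := by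
  have h : GradedRing.proj 𝒜 0 a = homogeneousComponent 0 a := MvPolynomial.decomposition.decompose'_apply a 0
  rw [h, homogeneousComponent_zero]
  rfl

theorem irrelevant_eq : (HomogeneousIdeal.irrelevant 𝒜).toIdeal = MM := by
  ext a
  show a ∈ HomogeneousIdeal.irrelevant 𝒜 ↔ _
  rw [HomogeneousIdeal.mem_irrelevant_iff, proj_zero, constantCoeff_mem_orig,
    MvPolynomial.C_eq_zero]

theorem le_orig (I : Ideal (MvPolynomial (Fin (n + 1)) k)) (hI : I.IsHomogeneous 𝒜) (hne : I ≠ ⊤) : I ≤ MM := by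
  intro a ha
  rw [constantCoeff_mem_orig]
  by_contra h
  have h1 : GradedRing.proj 𝒜 0 a ∈ I := hI 0 ha
  rw [proj_zero] at h1
  exact hne (Ideal.eq_top_of_isUnit_mem _ h1 ((isUnit_iff_ne_zero.2 h).map C))

theorem exists_X_notMem (Z : Ideal (MvPolynomial (Fin (n + 1)) k)) (hZ : Z ≤ MM) (hne : Z ≠ MM) :
    ∃ i, (X i : MvPolynomial (Fin (n + 1)) k) ∉ Z := by
  by_contra h
  push Not at h
  refine hne (le_antisymm hZ fun a ha => ?_)
  have hgen : ∀ p : MvPolynomial (Fin (n + 1)) k, p - C (constantCoeff p) ∈ Z := by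
    intro p
    induction p using MvPolynomial.induction_on with
    | C a => simp
    | add p q hp hq =>
      have := Z.add_mem hp hq
      rw [map_add, map_add]
      convert this using 1
      ring
    | mul_X p i hp =>
      rw [map_mul, constantCoeff_X, mul_zero, map_zero, sub_zero]
      exact Z.mul_mem_left _ (h i)
  have := hgen a
  rwa [(constantCoeff_mem_orig a).1 ha, map_zero, sub_zero] at this

theorem exists_minimal {I : Ideal (MvPolynomial (Fin (n + 1)) k)} (hI : I.IsHomogeneous 𝒜) (hIM : I ≤ MM) {e : ℕ}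
    (hH : ((e : ℕ) : ℕ∞) ≤ H I MM) :
    ∃ Z : Ideal (MvPolynomial (Fin (n + 1)) k), Z ∈ I.minimalPrimes ∧ Z ≤ MM ∧ ((e : ℕ) : ℕ∞) ≤ H Z MM := by
  haveI : (Ideal.map (Ideal.Quotient.mk I) MM).IsPrime := Ideal.isPrime_map_quotientMk_of_isPrime hIM
  obtain ⟨l, hlast, hlen⟩ := Ideal.exists_ltSeries_length_eq_height (Ideal.map (Ideal.Quotient.mk I) MM)
  let s := l.map (PrimeSpectrum.comap (Ideal.Quotient.mk I))
    (RingHom.strictMono_comap_of_surjective Ideal.Quotient.mk_surjective)
  have hI0 : I ≤ s.head.asIdeal := fun a ha => by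
    show Ideal.Quotient.mk I a ∈ l.head.asIdeal
    rw [Ideal.Quotient.eq_zero_iff_mem.2 ha]
    exact zero_mem _
  obtain ⟨Z, hZ, hZle⟩ := Ideal.exists_minimalPrimes_le hI0
  haveI := hZ.1.1
  have hlast' : s.last.asIdeal ≤ MM := by
    intro a ha
    rw [← Ideal.mem_quotient_iff_mem hIM]
    have : Ideal.Quotient.mk I a ∈ l.last.asIdeal := ha
    rwa [hlast] at this
  refine ⟨Z, hZ, (hZle.trans (LTSeries.monotone s (Fin.zero_le (Fin.last _)))).trans hlast', ?_⟩
  refine hH.trans (le_of_eq_of_le ?_ (le_H Z MM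
    ((hZle.trans (LTSeries.monotone s (Fin.zero_le (Fin.last _)))).trans hlast') s hZle hlast'))
  exact hlen.symm

/-- The point of a relevant minimal prime. -/
def point (Z : Ideal (MvPolynomial (Fin (n + 1)) k)) {I : Ideal (MvPolynomial (Fin (n + 1)) k)}
    (hZ : Z ∈ I.minimalPrimes) (hI : I.IsHomogeneous 𝒜) (hZM : Z ≤ MM) (hH : (1 : ℕ∞) ≤ H Z MM) :
    ProjectiveSpectrum 𝒜 :=
  { asHomogeneousIdeal := ⟨Z, by
      haveI := hZ.1.1
      have h1 : (Z.homogeneousCore 𝒜).toIdeal = Z := le_antisymm (Ideal.toIdeal_homogeneousCore_le 𝒜 Z)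
        (hZ.2 ⟨Ideal.IsPrime.homogeneousCore hZ.1.1, by
          have h := Ideal.homogeneousCore_mono 𝒜 hZ.1.2
          intro a ha
          exact h (show a ∈ (I.homogeneousCore 𝒜).toIdeal by rw [hI.toIdeal_homogeneousCore_eq_self]; exact ha)⟩ (Ideal.toIdeal_homogeneousCore_le 𝒜 Z))
      rw [← h1]
      exact (Z.homogeneousCore 𝒜).isHomogeneous⟩
    isPrime := hZ.1.1
    not_irrelevant_le := fun h => by
      have h' : MM ≤ Z := irrelevant_eq (k := k) (n := n) ▸ h
      obtain rfl := le_antisymm hZM h'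
      rw [H_self] at hH
      simp at hH }


/-- Homogeneous chains realise the height at the vertex. -/
theorem exists_chain : ∀ (e : ℕ) (I : Ideal (MvPolynomial (Fin (n + 1)) k)), I.IsHomogeneous 𝒜 → I ≤ MM →
    ((e + 1 : ℕ) : ℕ∞) ≤ H I MM →
    ∃ s : LTSeries (ProjectiveSpectrum 𝒜), s.length = e ∧ I ≤ s.head.asHomogeneousIdeal.toIdeal := by
  intro e
  induction e with
  | zero =>
    intro I hI hIM hH
    obtain ⟨Z, hZmin, hZM, hZH⟩ := exists_minimal hI hIM hH
    exact ⟨RelSeries.singleton _ (point Z hZmin hI hZM hZH), rfl, hZmin.1.2⟩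
  | succ e ih =>
    intro I hI hIM hH
    obtain ⟨Z, hZmin, hZM, hZH⟩ := exists_minimal hI hIM hH
    let P := point Z hZmin hI hZM (le_trans (by exact_mod_cast Nat.le_add_left 1 _) hZH)
    haveI : Z.IsPrime := hZmin.1.1
    have hne : Z ≠ MM := fun h => by
      subst h
      rw [H_self] at hZH
      simp at hZH
    obtain ⟨i, hi⟩ := exists_X_notMem Z hZM hne
    have hXM : (X i : MvPolynomial (Fin (n + 1)) k) ∈ MM := (constantCoeff_mem_orig _).2 (constantCoeff_X _ i)
    set I' := Z ⊔ Ideal.span {(X i : MvPolynomial (Fin (n + 1)) k)}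
    have hI'hom : I'.IsHomogeneous 𝒜 := (P.asHomogeneousIdeal.isHomogeneous).sup
      (Ideal.homogeneous_span 𝒜 _ fun x hx => by
        rw [Set.mem_singleton_iff.1 hx]
        exact ⟨1, isHomogeneous_X k i⟩)
    have hI'M : I' ≤ MM := sup_le hZM ((Ideal.span_singleton_le_iff_mem _).2 hXM)
    haveI : (Ideal.map (Ideal.Quotient.mk Z) MM).IsPrime := Ideal.isPrime_map_quotientMk_of_isPrime hZM
    have hr : Ideal.Quotient.mk Z (X i) ∈ Ideal.map (Ideal.Quotient.mk Z) MM := Ideal.mem_map_of_mem _ hXM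
    have h1 := Ideal.height_le_height_add_one_of_mem hr
    set J := Ideal.span {Ideal.Quotient.mk Z (X i)}
    have hJ : J ≤ Ideal.map (Ideal.Quotient.mk Z) MM := (Ideal.span_singleton_le_iff_mem _).2 hr
    haveI : ((Ideal.map (Ideal.Quotient.mk Z) MM).map (Ideal.Quotient.mk J)).IsPrime :=
      Ideal.isPrime_map_quotientMk_of_isPrime hJ
    let g : (MvPolynomial (Fin (n + 1)) k ⧸ I') →+* (MvPolynomial (Fin (n + 1)) k ⧸ Z) ⧸ J :=
      Ideal.Quotient.lift I' ((Ideal.Quotient.mk J).comp (Ideal.Quotient.mk Z)) fun a ha => by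
        have : I' ≤ RingHom.ker ((Ideal.Quotient.mk J).comp (Ideal.Quotient.mk Z)) := by
          refine sup_le (fun z hz => ?_) ((Ideal.span_singleton_le_iff_mem _).2 ?_)
          · rw [RingHom.mem_ker, RingHom.comp_apply, Ideal.Quotient.eq_zero_iff_mem.2 hz, map_zero]
          · exact Ideal.Quotient.eq_zero_iff_mem.2 (Ideal.mem_span_singleton_self _)
        exact this ha
    have hg : Function.Surjective g := fun y => by
      obtain ⟨y, rfl⟩ := Ideal.Quotient.mk_surjective y
      obtain ⟨y, rfl⟩ := Ideal.Quotient.mk_surjective y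
      exact ⟨Ideal.Quotient.mk _ y, rfl⟩
    have h2 : ((Ideal.map (Ideal.Quotient.mk Z) MM).map (Ideal.Quotient.mk J)).height ≤ H I' MM := by
      refine le_trans (height_le_height_comap g hg _) (le_of_eq ?_)
      unfold H
      congr 1
      ext y
      obtain ⟨y, rfl⟩ := Ideal.Quotient.mk_surjective y
      rw [Ideal.mem_comap]
      show Ideal.Quotient.mk J (Ideal.Quotient.mk Z y) ∈ _ ↔ _
      rw [Ideal.mem_quotient_iff_mem hJ, Ideal.mem_quotient_iff_mem hZM, Ideal.mem_quotient_iff_mem hI'M]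
    have h3 : ((e + 1 : ℕ) : ℕ∞) + 1 ≤ H I' MM + 1 := by
      refine le_trans ?_ (h1.trans (add_le_add h2 le_rfl))
      exact le_trans (by norm_cast) hZH
    obtain ⟨s, hs, hsI⟩ := ih I' hI'hom hI'M ((ENat.add_le_add_iff_right ENat.one_ne_top).1 h3)
    refine ⟨s.cons P ?_, ?_, ?_⟩
    · refine lt_of_le_of_ne (le_sup_left.trans hsI) fun h => hi ?_
      have := hsI (Ideal.mem_sup_right (Ideal.mem_span_singleton_self (X i)))
      rw [← h] at this
      exact this
    · simp [hs]
    · rw [RelSeries.head_cons]; exact hZmin.1.2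
/-- A chain of homogeneous relevant primes gives height at the vertex. -/
theorem succ_length_le_H (s : LTSeries (ProjectiveSpectrum 𝒜)) :
    ((s.length + 1 : ℕ) : ℕ∞) ≤ H s.head.asHomogeneousIdeal.toIdeal MM := by
  have hle : ∀ p : ProjectiveSpectrum 𝒜, p.asHomogeneousIdeal.toIdeal ≤ MM := fun p =>
    le_orig _ p.asHomogeneousIdeal.isHomogeneous p.isPrime.ne_top
  let t : LTSeries (PrimeSpectrum (MvPolynomial (Fin (n + 1)) k)) :=
    (s.map (fun p => ⟨p.asHomogeneousIdeal.toIdeal, p.isPrime⟩) fun a b h => h)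
  let t' := t.snoc ⟨MM, inferInstance⟩ (lt_of_le_of_ne (hle s.last) fun h => s.last.not_irrelevant_le (by
    intro a ha
    show a ∈ s.last.asHomogeneousIdeal.toIdeal
    rw [h, ← irrelevant_eq]
    exact ha))
  have := le_H s.head.asHomogeneousIdeal.toIdeal MM (hle _) t' (by rw [RelSeries.head_snoc]; exact le_rfl)
    (by rw [RelSeries.last_snoc])
  simpa [t', t] using this

/-- The projective dimension theorem. -/
theorem main (r s : ℕ) (X Y : Set (ProjectiveSpectrum 𝒜)) (hX : IsClosed X) (hY : IsClosed Y)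
    [QuasiSober (ProjectiveSpectrum 𝒜)] [T0Space (ProjectiveSpectrum 𝒜)]
    (hXr : topologicalKrullDim X = r) (hYs : topologicalKrullDim Y = s) (hrs : n ≤ r + s) :
    (X ∩ Y).Nonempty ∧ ((r + s : ℕ) : WithBot ℕ∞) ≤ topologicalKrullDim ↥(X ∩ Y) + (n : WithBot ℕ∞) := by
  have aux : ∀ (Z : Set (ProjectiveSpectrum 𝒜)), IsClosed Z → ∀ m : ℕ, topologicalKrullDim Z = m →
      ∃ l : LTSeries (ProjectiveSpectrum 𝒜), l.length = m ∧ l.head ∈ Z := by
    intro Z hZ m hm
    haveI : QuasiSober Z := hZ.isClosedEmbedding_subtypeVal.quasiSober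
    obtain ⟨c, hc⟩ := Unibranch.exists_chain_of_le_topologicalKrullDim (α := Z) (k := m) hm.ge
    refine ⟨{ length := m, toFun := fun i => (c i).1, step := fun i => ?_ }, rfl, (c 0).2⟩
    refine lt_of_le_of_ne ((ProjectiveSpectrum.le_iff_mem_closure 𝒜 _ _).2 ?_) fun h => (hc i).2 (Subtype.ext h)
    exact ((subtype_specializes_iff _ _).1 (hc i).1).mem_closure
  obtain ⟨lX, hlX, hPX⟩ := aux X hX r hXr
  obtain ⟨lY, hlY, hQY⟩ := aux Y hY s hYs
  set P := lX.head.asHomogeneousIdeal
  set Q := lY.head.asHomogeneousIdeal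
  have hPM : P.toIdeal ≤ MM := le_orig _ P.isHomogeneous lX.head.isPrime.ne_top
  have hQM : Q.toIdeal ≤ MM := le_orig _ Q.isHomogeneous lY.head.isPrime.ne_top
  have h := H_sup P.toIdeal Q.toIdeal hPM hQM
  have h' := le_trans (add_le_add (succ_length_le_H lX) (succ_length_le_H lY)) h
  rw [hlX, hlY, Fintype.card_fin] at h'
  obtain ⟨e, he⟩ : ∃ e, r + s = n + e := ⟨r + s - n, by omega⟩
  have h'' : ((e + 1 : ℕ) : ℕ∞) ≤ H (P.toIdeal ⊔ Q.toIdeal) MM := by
    refine (ENat.add_le_add_iff_right (ENat.coe_ne_top (n + 1))).1 (le_trans (le_of_eq ?_) h')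
    norm_cast
    omega
  obtain ⟨l, hl, hlI⟩ := exists_chain e _ (P.isHomogeneous.sup Q.isHomogeneous) (sup_le hPM hQM) h''
  have hmem : ∀ i, l i ∈ X ∩ Y := fun i => by
    have hPi : lX.head ≤ l i := le_trans (show P.toIdeal ≤ _ from le_sup_left.trans hlI)
      (LTSeries.monotone l (Fin.zero_le i) : l.head.asHomogeneousIdeal ≤ (l i).asHomogeneousIdeal)
    have hQi : lY.head ≤ l i := le_trans (show Q.toIdeal ≤ _ from le_sup_right.trans hlI)
      (LTSeries.monotone l (Fin.zero_le i) : l.head.asHomogeneousIdeal ≤ (l i).asHomogeneousIdeal)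
    exact ⟨hX.closure_subset_iff.2 (Set.singleton_subset_iff.2 hPX) ((ProjectiveSpectrum.le_iff_mem_closure 𝒜 _ _).1 hPi),
      hY.closure_subset_iff.2 (Set.singleton_subset_iff.2 hQY) ((ProjectiveSpectrum.le_iff_mem_closure 𝒜 _ _).1 hQi)⟩
  haveI : QuasiSober ↥(X ∩ Y) := (hX.inter hY).isClosedEmbedding_subtypeVal.quasiSober
  refine ⟨⟨_, hmem 0⟩, ?_⟩
  have hdim := Unibranch.natCast_le_topologicalKrullDim (α := ↥(X ∩ Y)) (fun i => ⟨l i, hmem i⟩) (k := l.length)
    fun i => ⟨(subtype_specializes_iff _ _).2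
      (specializes_iff_mem_closure.2 ((ProjectiveSpectrum.le_iff_mem_closure 𝒜 _ _).1 (l.step i).le)),
      fun h => (l.step i).ne (congrArg Subtype.val h)⟩
  rw [hl] at hdim
  calc ((r + s : ℕ) : WithBot ℕ∞) = (e : WithBot ℕ∞) + (n : WithBot ℕ∞) := by rw [he]; push_cast; rw [add_comm]
    _ ≤ _ := by gcongr

end Groth.Agent.ProjInter
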