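import Groth.Agent.ProjInter.Affine
import Groth.Agent.DimFormula.Field
import Mathlib.LinearAlgebra.LinearIndependent.Lemmas
import Mathlib.RingTheory.TensorProduct.MvPolynomial
import Mathlib.RingTheory.NoetherNormalization

/-! Every component of the intersection of two irreducible closed subsets of affine space. -/

set_option autoImplicit false
set_option maxHeartbeats 1000000
set_option maxSynthPendingDepth 3
set_option backward.isDefEq.respectTransparency false

universe u

open MvPolynomial
open scoped TensorProduct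

noncomputable section

namespace Groth.Agent.ProjInter

/-- A finite torsion-free module over a domain embeds in a finite free one. -/
theorem exists_injective_toFree (P M : Type u) [CommRing P] [IsDomain P] [AddCommGroup M] [Module P M]
    [Module.Finite P M] (htf : ∀ (c : P) (x : M), c • x = 0 → c = 0 ∨ x = 0) :
    ∃ (ι : Type) (_ : Fintype ι) (φ : M →ₗ[P] (ι → P)), Function.Injective φ := by
  classical
  obtain ⟨N, v, hv⟩ := Module.Finite.exists_fin (R := P) (M := M)
  obtain ⟨s, hs, hmax⟩ := exists_maximal_linearIndepOn P v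
  have hdep : ∀ i, ∃ a : P, a ≠ 0 ∧ a • v i ∈ Submodule.span P (v '' s) := fun i => by
    by_cases hi : i ∈ s
    · exact ⟨1, one_ne_zero, by rw [one_smul]; exact Submodule.subset_span ⟨i, hi, rfl⟩⟩
    · exact hmax i hi
  choose a ha0 ha using hdep
  set c := ∏ i, a i
  have hc : c ≠ 0 := Finset.prod_ne_zero_iff.2 fun i _ => ha0 i
  have hrange : Submodule.span P (v '' s) = Submodule.span P (Set.range fun i : s => v i) := by
    rw [Set.image_eq_range]
  have hmem : ∀ x : M, c • x ∈ Submodule.span P (Set.range fun i : s => v i) := by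
    intro x
    have hx : x ∈ Submodule.span P (Set.range v) := hv ▸ Submodule.mem_top
    induction hx using Submodule.span_induction with
    | mem x hx =>
      obtain ⟨i, rfl⟩ := hx
      rw [show c = (∏ j ∈ Finset.univ.erase i, a j) * a i from (Finset.prod_erase_mul _ _ (Finset.mem_univ i)).symm,
        mul_smul, ← hrange]
      exact Submodule.smul_mem _ _ (ha i)
    | zero => rw [smul_zero]; exact zero_mem _
    | add x y _ _ h1 h2 => rw [smul_add]; exact add_mem h1 h2
    | smul r x _ h1 => rw [smul_comm]; exact Submodule.smul_mem _ _ h1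
  let b := Module.Basis.span hs.linearIndependent
  refine ⟨s, inferInstance, b.equivFun.toLinearMap.comp ((c • (LinearMap.id : M →ₗ[P] M)).codRestrict _ hmem), ?_⟩
  refine b.equivFun.injective.comp fun x y hxy => ?_
  have h : c • x = c • y := congrArg Subtype.val hxy
  exact sub_eq_zero.1 ((htf c (x - y) (by rw [smul_sub, h, sub_self])).resolve_left hc)

variable {k : Type u} [Field k]

theorem eq_zero_of_components {P Q : Type u} [CommRing P] [CommRing Q] [Algebra k P] [Algebra k Q]
    {ι κ : Type} [Fintype ι] [Fintype κ] (y : (ι → P) ⊗[k] (κ → Q))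
    (h : ∀ i j, TensorProduct.map (LinearMap.proj (R := k) (φ := fun _ : ι => P) i)
      (LinearMap.proj (R := k) (φ := fun _ : κ => Q) j) y = 0) : y = 0 := by
  classical
  have key : ∀ y : (ι → P) ⊗[k] (κ → Q), y = ∑ i, ∑ j,
      TensorProduct.map (LinearMap.single k (fun _ : ι => P) i) (LinearMap.single k (fun _ : κ => Q) j)
        (TensorProduct.map (LinearMap.proj i) (LinearMap.proj j) y) := by
    intro y
    induction y using TensorProduct.induction_on with
    | zero => simp
    | add a b ha hb =>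
      conv_lhs => rw [ha, hb]
      rw [← Finset.sum_add_distrib]
      refine Finset.sum_congr rfl fun i _ => ?_
      rw [← Finset.sum_add_distrib]
      exact Finset.sum_congr rfl fun j _ => by rw [map_add, map_add]
    | tmul f g =>
      simp only [TensorProduct.map_tmul, LinearMap.coe_proj, Function.eval, LinearMap.coe_single,
        ← TensorProduct.tmul_sum, ← TensorProduct.sum_tmul, Finset.univ_sum_single]
  rw [key y]
  simp [h]

/-- Tensor products of finite extensions of domains stay torsion free. -/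
theorem tensor_torsionFree {P Q B C : Type u} [CommRing P] [IsDomain P] [CommRing Q] [IsDomain Q]
    [CommRing B] [IsDomain B] [CommRing C] [IsDomain C] [Algebra k P] [Algebra k Q] [Algebra k B] [Algebra k C]
    [IsDomain (P ⊗[k] Q)]
    (a : P →ₐ[k] B) (ha : Function.Injective a) (haf : a.Finite)
    (b : Q →ₐ[k] C) (hb : Function.Injective b) (hbf : b.Finite)
    (g : P ⊗[k] Q) (hg : g ≠ 0) (x : B ⊗[k] C) (hx : Algebra.TensorProduct.map a b g * x = 0) : x = 0 := by
  classical
  letI := a.toRingHom.toAlgebra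
  letI := b.toRingHom.toAlgebra
  haveI : Module.Finite P B := haf
  haveI : Module.Finite Q C := hbf
  haveI : IsScalarTower k P B := IsScalarTower.of_algebraMap_eq fun r => (a.commutes r).symm
  haveI : IsScalarTower k Q C := IsScalarTower.of_algebraMap_eq fun r => (b.commutes r).symm
  obtain ⟨ι, _, φ, hφ⟩ := exists_injective_toFree P B fun c y h => by
    rw [Algebra.smul_def, mul_eq_zero] at h
    exact h.imp_left fun h => ha (h.trans (map_zero a).symm)
  obtain ⟨κ, _, ψ, hψ⟩ := exists_injective_toFree Q C fun c y h => by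
    rw [Algebra.smul_def, mul_eq_zero] at h
    exact h.imp_left fun h => hb (h.trans (map_zero b).symm)
  let φk : B →ₗ[k] (ι → P) := φ.restrictScalars k
  let ψk : C →ₗ[k] (κ → Q) := ψ.restrictScalars k
  have hΨ : Function.Injective (TensorProduct.map φk ψk) :=
    TensorProduct.map_injective_of_flat_flat φk ψk hφ hψ
  have key : ∀ (i : ι) (j : κ) (p : P ⊗[k] Q) (y : B ⊗[k] C),
      TensorProduct.map (LinearMap.proj (φ := fun _ : ι => P) i) (LinearMap.proj (φ := fun _ : κ => Q) j)
        (TensorProduct.map φk ψk (Algebra.TensorProduct.map a b p * y)) =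
      p * TensorProduct.map (LinearMap.proj (φ := fun _ : ι => P) i) (LinearMap.proj (φ := fun _ : κ => Q) j)
        (TensorProduct.map φk ψk y) := by
    intro i j p y
    induction p using TensorProduct.induction_on with
    | zero => simp
    | add p q hp hq => rw [map_add, add_mul, map_add, map_add, hp, hq, add_mul]
    | tmul p q =>
      induction y using TensorProduct.induction_on with
      | zero => simp
      | add y z hy hz => rw [mul_add, map_add, map_add, hy, hz, ← mul_add, ← map_add, ← map_add]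
      | tmul u v =>
        rw [Algebra.TensorProduct.map_tmul, Algebra.TensorProduct.tmul_mul_tmul]
        simp only [TensorProduct.map_tmul, LinearMap.coe_proj, Function.eval, Algebra.TensorProduct.tmul_mul_tmul]
        have h1 : φk (a p * u) = p • φ u := by
          rw [← map_smul φ p u, Algebra.smul_def]
          rfl
        have h2 : ψk (b q * v) = q • ψ v := by
          rw [← map_smul ψ q v, Algebra.smul_def]
          rfl
        rw [h1, h2]
        rfl
  refine hΨ ((eq_zero_of_components _ fun i j => ?_).trans (map_zero _).symm)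
  have := key i j g x
  rw [hx, map_zero, map_zero] at this
  exact (mul_eq_zero.1 this.symm).resolve_left hg

/-- All components of a tensor product of affine domains have the expected dimension. -/
theorem dim_minimalPrimes_tensor (B C : Type u) [CommRing B] [IsDomain B] [CommRing C] [IsDomain C] [Algebra k B]
    [Algebra k C] [Algebra.FiniteType k B] [Algebra.FiniteType k C] (p : Ideal (B ⊗[k] C))
    (hp : p ∈ minimalPrimes (B ⊗[k] C)) :
    ∃ a b : ℕ, ringKrullDim B = a ∧ ringKrullDim C = b ∧ ringKrullDim ((B ⊗[k] C) ⧸ p) = (a + b : ℕ) := by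
  obtain ⟨a, g, hgi, hgf⟩ := exists_finite_inj_algHom_of_fg k B
  obtain ⟨b, h, hhi, hhf⟩ := exists_finite_inj_algHom_of_fg k C
  refine ⟨a, b, Unibranch.ringKrullDim_eq_of_finite_inj g hgi hgf, Unibranch.ringKrullDim_eq_of_finite_inj h hhi hhf, ?_⟩
  let e : MvPolynomial (Fin a) k ⊗[k] MvPolynomial (Fin b) k ≃ₐ[k] MvPolynomial (Fin (a + b)) k :=
    (MvPolynomial.tensorEquivSum k (Fin a) (Fin b) k).trans (MvPolynomial.renameEquiv k finSumFinEquiv)
  haveI : IsDomain (MvPolynomial (Fin a) k ⊗[k] MvPolynomial (Fin b) k) := MulEquiv.isDomain (MvPolynomial (Fin (a + b)) k) e.toMulEquiv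
  let T := B ⊗[k] C
  let ι : MvPolynomial (Fin a) k ⊗[k] MvPolynomial (Fin b) k →ₐ[k] T := Algebra.TensorProduct.map g h
  have hιf : ι.Finite := by
    letI := ι.toRingHom.toAlgebra
    haveI : IsScalarTower k (MvPolynomial (Fin a) k ⊗[k] MvPolynomial (Fin b) k) T :=
      IsScalarTower.of_algebraMap_eq fun r => (ι.commutes r).symm
    haveI : Algebra.FiniteType k T := Algebra.FiniteType.trans (S := B) ‹Algebra.FiniteType k B› inferInstance
    haveI : Algebra.FiniteType (MvPolynomial (Fin a) k ⊗[k] MvPolynomial (Fin b) k) T :=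
      Algebra.FiniteType.of_restrictScalars_finiteType k _ _
    haveI : Algebra.IsIntegral (MvPolynomial (Fin a) k ⊗[k] MvPolynomial (Fin b) k) T := by
      refine ⟨fun x => ?_⟩
      induction x using TensorProduct.induction_on with
      | zero => exact isIntegral_zero
      | add x y hx hy => exact hx.add hy
      | tmul u v =>
        have hu : ι.toRingHom.IsIntegralElem ((u : B) ⊗ₜ[k] (1 : C)) := by
          obtain ⟨q, hq, he⟩ := hgf.to_isIntegral u
          refine ⟨q.map (Algebra.TensorProduct.includeLeft (R := k) (S := k) (A := MvPolynomial (Fin a) k)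
            (B := MvPolynomial (Fin b) k)).toRingHom, hq.map _, ?_⟩
          have := congrArg (Algebra.TensorProduct.includeLeft (R := k) (S := k) (A := B) (B := C)).toRingHom he
          rw [Polynomial.hom_eval₂, map_zero] at this
          rw [Polynomial.eval₂_map, ← this]
          refine congrArg₂ (fun φ z => Polynomial.eval₂ φ z q) (RingHom.ext fun r => ?_) rfl
          show g r ⊗ₜ[k] h (1 : MvPolynomial (Fin b) k) = g r ⊗ₜ[k] (1 : C)
          rw [map_one]
        have hv : ι.toRingHom.IsIntegralElem ((1 : B) ⊗ₜ[k] (v : C)) := by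
          obtain ⟨q, hq, he⟩ := hhf.to_isIntegral v
          refine ⟨q.map (Algebra.TensorProduct.includeRight (R := k) (A := MvPolynomial (Fin a) k)
            (B := MvPolynomial (Fin b) k)).toRingHom, hq.map _, ?_⟩
          have := congrArg (Algebra.TensorProduct.includeRight (R := k) (A := B) (B := C)).toRingHom he
          rw [Polynomial.hom_eval₂, map_zero] at this
          rw [Polynomial.eval₂_map, ← this]
          refine congrArg₂ (fun φ z => Polynomial.eval₂ φ z q) (RingHom.ext fun r => ?_) rfl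
          show g (1 : MvPolynomial (Fin a) k) ⊗ₜ[k] h r = (1 : B) ⊗ₜ[k] h r
          rw [map_one]
        rw [show (u : B) ⊗ₜ[k] v = (u ⊗ₜ[k] (1 : C)) * ((1 : B) ⊗ₜ[k] v) by
          rw [Algebra.TensorProduct.tmul_mul_tmul, mul_one, one_mul]]
        exact IsIntegral.mul hu hv
    exact Algebra.IsIntegral.finite
  haveI := hp.1.1
  let G : MvPolynomial (Fin (a + b)) k →ₐ[k] T ⧸ p := ((Ideal.Quotient.mkₐ k p).comp ι).comp e.symm.toAlgHom
  refine Unibranch.ringKrullDim_eq_of_finite_inj G ?_ ?_
  · refine (injective_iff_map_eq_zero _).2 fun q hq => ?_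
    by_contra hq0
    have hne : e.symm q ≠ 0 := fun h0 => hq0 (by simpa using congrArg e h0)
    have hmem : ι (e.symm q) ∈ p := Ideal.Quotient.eq_zero_iff_mem.1 hq
    refine Set.disjoint_left.1 (Ideal.disjoint_nonZeroDivisors_of_mem_minimalPrimes hp) hmem ?_
    exact mem_nonZeroDivisors_iff_left.2 fun x hx => tensor_torsionFree g hgi hgf h hhi hhf _ hne x hx
  · refine AlgHom.Finite.comp ?_ (AlgHom.Finite.of_surjective _ e.symm.surjective)
    exact AlgHom.Finite.comp (AlgHom.Finite.of_surjective _ Ideal.Quotient.mk_surjective) hιf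

theorem isNoetherianRing_tensor (A B : Type u) [CommRing A] [CommRing B] [Algebra k A] [Algebra k B]
    [Algebra.FiniteType k A] [Algebra.FiniteType k B] : IsNoetherianRing (A ⊗[k] B) := by
  haveI : Algebra.FiniteType k (A ⊗[k] B) :=
    Algebra.FiniteType.trans (S := A) ‹Algebra.FiniteType k A› inferInstance
  exact Algebra.FiniteType.isNoetherianRing k (A ⊗[k] B)

variable {σ : Type u} [Finite σ]

/-- The abstract form of the diagonal argument. -/
theorem dim_le_aux {B C D : Type u} [CommRing B] [IsDomain B] [CommRing C] [IsDomain C] [CommRing D] [IsDomain D]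
    [Algebra k B] [Algebra k C] [Algebra k D] [Algebra.FiniteType k B] [Algebra.FiniteType k C]
    (π₁ : MvPolynomial σ k →ₐ[k] B) (π₂ : MvPolynomial σ k →ₐ[k] C) (π : MvPolynomial σ k →ₐ[k] D)
    (h₁ : Function.Surjective π₁) (h₂ : Function.Surjective π₂) (h₀ : Function.Surjective π)
    (f₁ : B →ₐ[k] D) (f₂ : C →ₐ[k] D) (hf₁ : f₁.comp π₁ = π) (hf₂ : f₂.comp π₂ = π)
    (hmin' : ∀ W : Ideal (MvPolynomial σ k), W.IsPrime → RingHom.ker π₁ ≤ W → RingHom.ker π₂ ≤ W →
      W ≤ RingHom.ker π → RingHom.ker π ≤ W) :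
    ringKrullDim B + ringKrullDim C ≤ ringKrullDim D + (Nat.card σ : ℕ) := by
  classical
  haveI : IsNoetherianRing (B ⊗[k] C) := isNoetherianRing_tensor (k := k) B C
  haveI := Fintype.ofFinite σ
  let η : B ⊗[k] C →ₐ[k] D := Algebra.TensorProduct.lift f₁ f₂ (fun _ _ => Commute.all _ _)
  let a : MvPolynomial σ k →ₐ[k] B ⊗[k] C := Algebra.TensorProduct.includeLeft.comp π₁
  let b : MvPolynomial σ k →ₐ[k] B ⊗[k] C := Algebra.TensorProduct.includeRight.comp π₂
  have hηa : ∀ x, η (a x) = π x := fun x => by
    show η (π₁ x ⊗ₜ 1) = _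
    rw [Algebra.TensorProduct.lift_tmul, map_one, mul_one]
    exact AlgHom.congr_fun hf₁ x
  have hηb : ∀ x, η (b x) = π x := fun x => by
    show η (1 ⊗ₜ π₂ x) = _
    rw [Algebra.TensorProduct.lift_tmul, map_one, one_mul]
    exact AlgHom.congr_fun hf₂ x
  have hηs : Function.Surjective η := fun y => by
    obtain ⟨y, rfl⟩ := h₀ y
    exact ⟨a y, hηa y⟩
  let d : σ → B ⊗[k] C := fun i => a (X i) - b (X i)
  set J := Ideal.span (Set.range d)
  haveI hWp : (RingHom.ker η).IsPrime := RingHom.ker_isPrime η
  have hJW : J ≤ RingHom.ker η := Ideal.span_le.2 (by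
    rintro _ ⟨i, rfl⟩
    rw [SetLike.mem_coe, RingHom.mem_ker, map_sub, hηa, hηb, sub_self])
  -- the diagonal
  have hθ : (Ideal.Quotient.mkₐ k J).comp a = (Ideal.Quotient.mkₐ k J).comp b := MvPolynomial.algHom_ext fun i =>
    Ideal.Quotient.eq.2 (Ideal.subset_span ⟨i, rfl⟩)
  have hdiag : ∀ x, a x - b x ∈ J := fun x => Ideal.Quotient.eq.1 (AlgHom.congr_fun hθ x)
  have hdec : ∀ y, ∃ x, y - a x ∈ J := by
    intro y
    induction y using TensorProduct.induction_on with
    | zero => exact ⟨0, by simp⟩
    | add y z hy hz =>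
      obtain ⟨x, hx⟩ := hy
      obtain ⟨x', hx'⟩ := hz
      exact ⟨x + x', by rw [map_add, add_sub_add_comm]; exact add_mem hx hx'⟩
    | tmul u v =>
      obtain ⟨u, rfl⟩ := h₁ u
      obtain ⟨v, rfl⟩ := h₂ v
      refine ⟨u * v, ?_⟩
      have : π₁ u ⊗ₜ[k] π₂ v = a u * b v := by simp [a, b]
      rw [this, map_mul, ← mul_sub]
      exact J.mul_mem_left _ (by have h := J.neg_mem (hdiag v); rwa [neg_sub] at h)
  -- minimality
  have hmin : RingHom.ker η ∈ J.minimalPrimes := by
    refine ⟨⟨hWp, hJW⟩, fun W' hW' hle => ?_⟩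
    haveI := hW'.1
    have hb' : ∀ x, b x ∈ W' → a x ∈ W' := fun x h => by
      have := W'.add_mem (hW'.2 (hdiag x)) h
      rwa [sub_add_cancel] at this
    have hP : RingHom.ker π₁ ≤ W'.comap a := fun x hx => by
      show a x ∈ W'
      rw [show a x = 0 from by
        show π₁ x ⊗ₜ[k] (1 : C) = 0
        rw [RingHom.mem_ker.1 hx, TensorProduct.zero_tmul]]
      exact zero_mem _
    have hQ : RingHom.ker π₂ ≤ W'.comap a := fun x hx => by
      refine hb' x ?_
      rw [show b x = 0 from by
        show (1 : B) ⊗ₜ[k] π₂ x = 0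
        rw [RingHom.mem_ker.1 hx, TensorProduct.tmul_zero]]
      exact zero_mem _
    have heq : RingHom.ker π ≤ W'.comap a := hmin' _ inferInstance hP hQ fun x hx => by
      have := hle (Ideal.mem_comap.1 hx)
      rwa [RingHom.mem_ker, hηa] at this
    intro y hy
    obtain ⟨x, hx⟩ := hdec y
    have hyx : η (a x) = 0 := by
      have := hJW hx
      rwa [RingHom.mem_ker, map_sub, RingHom.mem_ker.1 hy, zero_sub, neg_eq_zero] at this
    rw [hηa] at hyx
    have := W'.add_mem (hW'.2 hx) (heq hyx : a x ∈ W')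
    rwa [sub_add_cancel] at this
  have hht : (RingHom.ker η).height ≤ (Nat.card σ : ℕ) := by
    refine le_trans (Ideal.height_le_card_of_mem_minimalPrimes_span (Set.finite_range d) hmin) ?_
    norm_cast
    rw [← Set.image_univ]
    refine le_trans (Set.ncard_image_le Set.finite_univ) ?_
    rw [Set.ncard_univ]
  obtain ⟨p, hp, hpW⟩ := Ideal.exists_minimalPrimes_le (bot_le : (⊥ : Ideal _) ≤ RingHom.ker η)
  obtain ⟨a₀, b₀, ha₀, hb₀, hab⟩ := dim_minimalPrimes_tensor B C p hp
  haveI := hp.1.1
  haveI : Algebra.FiniteType k (B ⊗[k] C) :=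
    Algebra.FiniteType.trans (S := B) ‹Algebra.FiniteType k B› inferInstance
  haveI hW'' : ((RingHom.ker η).map (Ideal.Quotient.mk p)).IsPrime := Ideal.isPrime_map_quotientMk_of_isPrime hpW
  have hform := DimFormula.height_add_ringKrullDim_quotient k (F := (B ⊗[k] C) ⧸ p)
    ⟨(RingHom.ker η).map (Ideal.Quotient.mk p), hW''⟩
  rw [hab] at hform
  have h1 : ((RingHom.ker η).map (Ideal.Quotient.mk p)).height ≤ (Nat.card σ : ℕ) := by
    refine le_trans (height_le_height_comap _ Ideal.Quotient.mk_surjective _) ?_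
    rw [Ideal.comap_map_of_surjective _ Ideal.Quotient.mk_surjective,
      show Ideal.comap (Ideal.Quotient.mk p) ⊥ = p from Ideal.mk_ker, sup_of_le_left hpW]
    exact hht
  have h2 : ringKrullDim (((B ⊗[k] C) ⧸ p) ⧸ (RingHom.ker η).map (Ideal.Quotient.mk p)) = ringKrullDim D :=
    ringKrullDim_eq_of_ringEquiv ((DoubleQuot.quotQuotEquivQuotOfLE hpW).trans
      (RingHom.quotientKerEquivOfSurjective (f := η.toRingHom) hηs))
  rw [ha₀, hb₀, ← Nat.cast_add, ← hform]
  change (((RingHom.ker η).map (Ideal.Quotient.mk p)).height : WithBot ℕ∞) +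
    ringKrullDim (((B ⊗[k] C) ⧸ p) ⧸ (RingHom.ker η).map (Ideal.Quotient.mk p)) ≤ _
  rw [h2, add_comm]
  exact add_le_add le_rfl (WithBot.coe_le_coe.2 h1)

/-- Minimal primes over the sum of two primes of a polynomial ring. -/
theorem dim_le_minimalPrimes_sup (P Q W : Ideal (MvPolynomial σ k)) [P.IsPrime] [Q.IsPrime] [W.IsPrime]
    (hW : W ∈ (P ⊔ Q).minimalPrimes) :
    ringKrullDim (MvPolynomial σ k ⧸ P) + ringKrullDim (MvPolynomial σ k ⧸ Q) ≤
      ringKrullDim (MvPolynomial σ k ⧸ W) + (Nat.card σ : ℕ) := by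
  refine dim_le_aux (Ideal.Quotient.mkₐ k P) (Ideal.Quotient.mkₐ k Q) (Ideal.Quotient.mkₐ k W)
    Ideal.Quotient.mk_surjective Ideal.Quotient.mk_surjective Ideal.Quotient.mk_surjective
    (Ideal.Quotient.factorₐ k (le_sup_left.trans hW.1.2)) (Ideal.Quotient.factorₐ k (le_sup_right.trans hW.1.2))
    rfl rfl fun W' hW' hP hQ hle => ?_
  intro x hx
  have hk : ∀ (I : Ideal (MvPolynomial σ k)) (y : MvPolynomial σ k), y ∈ I → y ∈ RingHom.ker (Ideal.Quotient.mkₐ k I) :=
    fun I y hy => Ideal.Quotient.eq_zero_iff_mem.2 hy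
  exact hW.2 ⟨hW', sup_le (fun y hy => hP (hk P y hy)) (fun y hy => hQ (hk Q y hy))⟩
    (fun y hy => Ideal.Quotient.eq_zero_iff_mem.1 (hle hy)) (Ideal.Quotient.eq_zero_iff_mem.1 hx)

end Groth.Agent.ProjInter
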