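import Groth.Agent.ProjInter.AffInter
import Mathlib.RingTheory.Spectrum.Prime.Topology
import Mathlib.AlgebraicGeometry.AffineSpace

/-! The affine dimension theorem, scheme form. -/

set_option autoImplicit false
set_option maxHeartbeats 1000000

universe u

open AlgebraicGeometry CategoryTheory Topology

noncomputable section

namespace Groth.Agent.ProjInter

variable {R : Type u} [CommRing R]

/-- A space embedded in `Spec R` onto `V(W)` has dimension `dim R/W`. -/
theorem dim_eq_of_range {α : Type u} [TopologicalSpace α] (e : α → PrimeSpectrum R) (he : IsEmbedding e)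
    (W : Ideal R) (hW : Set.range e = PrimeSpectrum.zeroLocus (W : Set R)) :
    topologicalKrullDim α = ringKrullDim (R ⧸ W) := by
  rw [← PrimeSpectrum.topologicalKrullDim_eq_ringKrullDim]
  have hc := PrimeSpectrum.isClosedEmbedding_comap_of_surjective (R ⧸ W) (Ideal.Quotient.mk W) Ideal.Quotient.mk_surjective
  have hr : Set.range (PrimeSpectrum.comap (Ideal.Quotient.mk W)) = PrimeSpectrum.zeroLocus (W : Set R) := by
    rw [_root_.range_comap_of_surjective _ _ Ideal.Quotient.mk_surjective, Ideal.mk_ker]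
  let h : α ≃ₜ PrimeSpectrum (R ⧸ W) :=
    he.toHomeomorph.trans ((Homeomorph.setCongr (hW.trans hr.symm)).trans hc.isEmbedding.toHomeomorph.symm)
  exact IsHomeomorph.topologicalKrullDim_eq h h.isHomeomorph

/-- An irreducible closed subset of a space embedded in `Spec R` is some `V(W)`. -/
theorem exists_zeroLocus {α : Type u} [TopologicalSpace α] (e : α → PrimeSpectrum R) (he : IsClosedEmbedding e)
    (Z : Set α) (hZc : IsClosed Z) (hZi : IsIrreducible Z) :
    ∃ W : PrimeSpectrum R, e '' Z = PrimeSpectrum.zeroLocus (W.asIdeal : Set R) := by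
  have h1 : IsClosed (e '' Z) := he.isClosedMap _ hZc
  have h2 : IsIrreducible (e '' Z) := hZi.image e he.continuous.continuousOn
  refine ⟨h2.genericPoint, ?_⟩
  rw [← PrimeSpectrum.closure_singleton, h2.genericPoint_closure_eq, h1.closure_eq]

theorem component_of_mem {α : Type u} [TopologicalSpace α] (e : α → PrimeSpectrum R) (he : IsClosedEmbedding e)
    (d : ℕ) (hd : ∀ T ∈ irreducibleComponents α, topologicalKrullDim T = d) (x : α) :
    ∃ P : PrimeSpectrum R, PrimeSpectrum.zeroLocus (P.asIdeal : Set R) ⊆ Set.range e ∧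
      P.asIdeal ≤ (e x).asIdeal ∧ ringKrullDim (R ⧸ P.asIdeal) = d := by
  obtain ⟨P, hP⟩ := exists_zeroLocus e he (irreducibleComponent x) isClosed_irreducibleComponent
    isIrreducible_irreducibleComponent
  refine ⟨P, hP ▸ Set.image_subset_range e _, ?_, ?_⟩
  · have : e x ∈ PrimeSpectrum.zeroLocus (P.asIdeal : Set R) := hP ▸ Set.mem_image_of_mem e mem_irreducibleComponent
    exact this
  · rw [← hd _ (irreducibleComponent_mem_irreducibleComponents x)]
    refine (dim_eq_of_range (e ∘ Subtype.val) (he.isEmbedding.comp IsEmbedding.subtypeVal) P.asIdeal ?_).symm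
    rw [Set.range_comp, Subtype.range_coe]
    exact hP

/-- The affine dimension theorem, on the spectrum of a polynomial ring. -/
theorem affine_main {k : Type u} [Field k] {σ : Type u} [Finite σ] (r s : ℕ) {S : Type u} [TopologicalSpace S]
    (h : S ≃ₜ PrimeSpectrum (MvPolynomial σ k)) (X Y : Set S) (hX : IsClosed X) (hY : IsClosed Y)
    (hXr : ∀ Z ∈ irreducibleComponents X, topologicalKrullDim Z = r)
    (hYs : ∀ Z ∈ irreducibleComponents Y, topologicalKrullDim Z = s)
    (Z : Set ↥(X ∩ Y)) (hZ : Z ∈ irreducibleComponents ↥(X ∩ Y)) :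
    ((r + s : ℕ) : WithBot ℕ∞) ≤ topologicalKrullDim Z + ((Nat.card σ : ℕ) : WithBot ℕ∞) := by
  let eX : X → PrimeSpectrum (MvPolynomial σ k) := fun x => h x.1
  let eY : Y → PrimeSpectrum (MvPolynomial σ k) := fun x => h x.1
  let e : ↥(X ∩ Y) → PrimeSpectrum (MvPolynomial σ k) := fun x => h x.1
  have heX : IsClosedEmbedding eX := h.isClosedEmbedding.comp hX.isClosedEmbedding_subtypeVal
  have heY : IsClosedEmbedding eY := h.isClosedEmbedding.comp hY.isClosedEmbedding_subtypeVal
  have he : IsClosedEmbedding e := h.isClosedEmbedding.comp (hX.inter hY).isClosedEmbedding_subtypeVal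
  obtain ⟨W, hW⟩ := exists_zeroLocus e he Z (isClosed_of_mem_irreducibleComponents _ hZ) hZ.1
  obtain ⟨w, hwZ, hw⟩ : W ∈ e '' Z := by
    rw [hW]; exact (PrimeSpectrum.mem_zeroLocus _ _).2 (fun x hx => hx)
  obtain ⟨P, hPX, hPW, hPd⟩ := component_of_mem eX heX r hXr ⟨w.1, w.2.1⟩
  obtain ⟨Q, hQY, hQW, hQd⟩ := component_of_mem eY heY s hYs ⟨w.1, w.2.2⟩
  have hw' : h w.1 = W := hw
  have hPW' : P.asIdeal ≤ W.asIdeal := hw' ▸ hPW
  have hQW' : Q.asIdeal ≤ W.asIdeal := hw' ▸ hQW
  have hmin : W.asIdeal ∈ (P.asIdeal ⊔ Q.asIdeal).minimalPrimes := by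
    refine ⟨⟨W.2, sup_le hPW' hQW'⟩, fun W' hW' hle => ?_⟩
    let p : PrimeSpectrum (MvPolynomial σ k) := ⟨W', hW'.1⟩
    obtain ⟨x, hx⟩ := hPX (show p ∈ PrimeSpectrum.zeroLocus (P.asIdeal : Set _) from le_sup_left.trans hW'.2)
    obtain ⟨y, hy⟩ := hQY (show p ∈ PrimeSpectrum.zeroLocus (Q.asIdeal : Set _) from le_sup_right.trans hW'.2)
    have hxy : x.1 = y.1 := h.injective (hx.trans hy.symm)
    let t : ↥(X ∩ Y) := ⟨x.1, x.2, hxy ▸ y.2⟩
    have ht : e t = p := hx
    have hcl : IsIrreducible (closure ({t} : Set ↥(X ∩ Y))) := isIrreducible_singleton.closure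
    have hsub : Z ⊆ closure {t} := by
      intro z hz
      rw [he.isEmbedding.closure_eq_preimage_closure_image]
      show e z ∈ closure (e '' {t})
      rw [Set.image_singleton, ht, PrimeSpectrum.closure_singleton]
      have : e z ∈ PrimeSpectrum.zeroLocus (W.asIdeal : Set _) := hW ▸ Set.mem_image_of_mem e hz
      exact hle.trans this
    have : e t ∈ e '' Z := Set.mem_image_of_mem e (hZ.2 hcl hsub (subset_closure rfl))
    rw [hW, ht] at this
    exact this
  have key := dim_le_minimalPrimes_sup P.asIdeal Q.asIdeal W.asIdeal hmin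
  rw [hPd, hQd] at key
  rw [dim_eq_of_range (e ∘ Subtype.val) (he.isEmbedding.comp IsEmbedding.subtypeVal) W.asIdeal (α := Z)
    (by rw [Set.range_comp, Subtype.range_coe]; exact hW)]
  exact_mod_cast key

theorem affine_scheme (k : Type u) [Field k] (n r s : ℕ)
    (X Y : Set ↥(𝔸(ULift.{u} (Fin n); Spec (CommRingCat.of k))))
    (hX : IsClosed X) (hY : IsClosed Y) (hXr : ∀ Z ∈ irreducibleComponents X, topologicalKrullDim Z = r)
    (hYs : ∀ Z ∈ irreducibleComponents Y, topologicalKrullDim Z = s)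
    (Z : Set ↥(X ∩ Y)) (hZ : Z ∈ irreducibleComponents ↥(X ∩ Y)) :
    ((r + s : ℕ) : WithBot ℕ∞) ≤ topologicalKrullDim Z + (n : WithBot ℕ∞) := by
  have := affine_main (k := k) (σ := ULift.{u} (Fin n)) r s
    (TopCat.homeoOfIso (Scheme.forgetToTop.mapIso (AffineSpace.SpecIso (ULift.{u} (Fin n)) (CommRingCat.of k))))
    X Y hX hY hXr hYs Z hZ
  rwa [Nat.card_ulift, Nat.card_fin] at this

end Groth.Agent.ProjInter
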