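import Mathlib.RingTheory.Ideal.GoingDown
import Mathlib.RingTheory.Ideal.KrullsHeightTheorem
import Mathlib.RingTheory.MvPolynomial.Basic
import Mathlib.RingTheory.FiniteType
import Mathlib.RingTheory.FiniteStability
import Mathlib.RingTheory.TensorProduct.Finite
import Mathlib.RingTheory.Flat.Stability

/-! The dimension inequality for intersections of cones at the vertex. -/

set_option autoImplicit false
set_option maxHeartbeats 1000000
set_option maxSynthPendingDepth 3
set_option backward.isDefEq.respectTransparency false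

universe u

open MvPolynomial
open scoped TensorProduct

noncomputable section

namespace Groth.Agent.ProjInter

/-- The height of the image of `M` in `R ⧸ I`. -/
def H {R : Type u} [CommRing R] (I M : Ideal R) : ℕ∞ := (M.map (Ideal.Quotient.mk I)).height

/-- Surjections do not increase heights. -/
theorem height_le_height_comap {R S : Type u} [CommRing R] [CommRing S] (f : R →+* S)
    (hf : Function.Surjective f) (P : Ideal S) [P.IsPrime] : P.height ≤ (P.comap f).height := by
  rw [show P.height = _ from PrimeSpectrum.height_eq_orderHeight ⟨P, ‹_›⟩,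
    show (P.comap f).height = _ from PrimeSpectrum.height_eq_orderHeight ⟨P.comap f, inferInstance⟩]
  exact Order.height_le_height_apply_of_strictMono (PrimeSpectrum.comap f)
    (RingHom.strictMono_comap_of_surjective hf) ⟨P, ‹_›⟩

variable {k : Type u} [Field k] {σ : Type} [Finite σ]

/-- The origin. -/
def orig (k : Type u) [Field k] (σ : Type) : Ideal (MvPolynomial σ k) :=
  RingHom.ker (MvPolynomial.constantCoeff : MvPolynomial σ k →+* k)

instance : (orig k σ).IsMaximal :=
  RingHom.ker_isMaximal_of_surjective _ fun a => ⟨C a, constantCoeff_C σ a⟩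

theorem fibre_aux {A B : Type u} [CommRing A] [CommRing B] [Algebra k A] [Algebra k B] (ε : A →ₐ[k] k) (x : A ⊗[k] B) :
    x - (1 : A) ⊗ₜ[k] Algebra.TensorProduct.lift ((Algebra.ofId k B).comp ε) (AlgHom.id k B) (fun _ _ => Commute.all _ _) x
      ∈ (RingHom.ker ε).map (algebraMap A (A ⊗[k] B)) := by
  induction x using TensorProduct.induction_on with
  | zero => simp
  | add x y hx hy =>
    rw [map_add, TensorProduct.tmul_add, add_sub_add_comm]
    exact add_mem hx hy
  | tmul a b =>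
    rw [Algebra.TensorProduct.lift_tmul]
    have h1 : (1 : A) ⊗ₜ[k] (((Algebra.ofId k B).comp ε) a * (AlgHom.id k B) b) = algebraMap k A (ε a) ⊗ₜ[k] b := by
      show (1 : A) ⊗ₜ[k] (algebraMap k B (ε a) * b) = _
      rw [← Algebra.smul_def, TensorProduct.tmul_smul, TensorProduct.smul_tmul', Algebra.algebraMap_eq_smul_one]
    rw [h1, ← TensorProduct.sub_tmul]
    have h2 : (a - algebraMap k A (ε a)) ⊗ₜ[k] b
        = algebraMap A (A ⊗[k] B) (a - algebraMap k A (ε a)) * (1 : A) ⊗ₜ[k] b := by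
      rw [Algebra.TensorProduct.algebraMap_apply, Algebra.TensorProduct.tmul_mul_tmul, Algebra.algebraMap_self,
        RingHom.id_apply, mul_one, one_mul]
    rw [h2]
    refine Ideal.mul_mem_right _ _ (Ideal.mem_map_of_mem _ ?_)
    simp [RingHom.mem_ker]

/-- Heights of rational points add up in a tensor product over a field. -/
theorem height_tensor {A B : Type u} [CommRing A] [CommRing B] [Algebra k A] [Algebra k B] [Algebra.FiniteType k A]
    [Algebra.FiniteType k B] (ε : A →ₐ[k] k) (δ : B →ₐ[k] k) :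
    (RingHom.ker ε).height + (RingHom.ker δ).height ≤
      (RingHom.ker (Algebra.TensorProduct.lift ε δ (fun _ _ => Commute.all _ _))).height := by
  haveI : IsNoetherianRing A := Algebra.FiniteType.isNoetherianRing k A
  haveI : Algebra.FiniteType k (A ⊗[k] B) :=
    Algebra.FiniteType.trans (S := A) ‹Algebra.FiniteType k A› inferInstance
  haveI : IsNoetherianRing (A ⊗[k] B) := Algebra.FiniteType.isNoetherianRing k (A ⊗[k] B)
  set μ : A ⊗[k] B →ₐ[k] k := Algebra.TensorProduct.lift ε δ (fun _ _ => Commute.all _ _)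
  haveI : (RingHom.ker ε).IsPrime := RingHom.ker_isPrime ε
  haveI : (RingHom.ker δ).IsPrime := RingHom.ker_isPrime δ
  haveI : (RingHom.ker μ).IsPrime := RingHom.ker_isPrime μ
  have hε : ∀ a : A, μ (algebraMap A (A ⊗[k] B) a) = ε a := fun a => by
    rw [Algebra.TensorProduct.algebraMap_apply, Algebra.algebraMap_self, RingHom.id_apply,
      Algebra.TensorProduct.lift_tmul, map_one, mul_one]
  haveI : (RingHom.ker μ).LiesOver (RingHom.ker ε) := ⟨by
    ext a
    rw [RingHom.mem_ker, Ideal.mem_comap, RingHom.mem_ker, hε]⟩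
  rw [Ideal.height_eq_height_add_of_liesOver_of_hasGoingDown (RingHom.ker ε) (RingHom.ker μ)]
  gcongr
  set χ : A ⊗[k] B →ₐ[k] B :=
    Algebra.TensorProduct.lift ((Algebra.ofId k B).comp ε) (AlgHom.id k B) (fun _ _ => Commute.all _ _)
  have hχs : Function.Surjective χ := fun b => ⟨1 ⊗ₜ b, by simp [χ]⟩
  set J := (RingHom.ker ε).map (algebraMap A (A ⊗[k] B))
  have hkerχ : RingHom.ker χ.toRingHom = J := by
    refine le_antisymm (fun x hx => ?_) (Ideal.map_le_iff_le_comap.2 fun a ha => ?_)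
    · have := fibre_aux (B := B) ε x
      rw [show Algebra.TensorProduct.lift ((Algebra.ofId k B).comp ε) (AlgHom.id k B) (fun _ _ => Commute.all _ _) x = 0 from hx,
        TensorProduct.tmul_zero, sub_zero] at this
      exact this
    · show χ (algebraMap A (A ⊗[k] B) a) = 0
      rw [Algebra.TensorProduct.algebraMap_apply, Algebra.algebraMap_self, RingHom.id_apply,
        Algebra.TensorProduct.lift_tmul, map_one, mul_one, AlgHom.comp_apply, RingHom.mem_ker.1 ha, map_zero]
  have hle : J ≤ RingHom.ker μ := Ideal.map_le_iff_le_comap.2 fun a ha => by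
    rw [Ideal.mem_comap, RingHom.mem_ker, hε]; exact ha
  haveI : ((RingHom.ker μ).map (Ideal.Quotient.mk J)).IsPrime := Ideal.isPrime_map_quotientMk_of_isPrime hle
  let e : B ≃+* (A ⊗[k] B) ⧸ J :=
    ((Ideal.quotEquivOfEq hkerχ.symm).trans (RingHom.quotientKerEquivOfSurjective (f := χ.toRingHom) hχs)).symm
  have he : ∀ x : A ⊗[k] B, e (χ x) = Ideal.Quotient.mk J x := fun x => by
    apply e.symm.injective
    rw [RingEquiv.symm_apply_apply]
    rfl
  have hcomap : ((RingHom.ker μ).map (Ideal.Quotient.mk J)).comap (e : B →+* _) = RingHom.ker δ := by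
    ext b
    rw [Ideal.mem_comap]
    have hb : (e : B →+* _) b = Ideal.Quotient.mk J (1 ⊗ₜ b) := by
      show e b = _
      rw [← he, Algebra.TensorProduct.lift_tmul, map_one, one_mul]
      rfl
    rw [hb, Ideal.mem_quotient_iff_mem hle, RingHom.mem_ker, RingHom.mem_ker,
      Algebra.TensorProduct.lift_tmul, map_one, one_mul]
  exact le_of_eq (hcomap ▸ RingEquiv.height_comap e _)

theorem constantCoeff_mem_orig (x : MvPolynomial σ k) : x ∈ orig k σ ↔ constantCoeff x = 0 := RingHom.mem_ker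

/-- The diagonal inequality. -/
theorem H_sup [Fintype σ] (P Q : Ideal (MvPolynomial σ k)) (hP : P ≤ orig k σ) (hQ : Q ≤ orig k σ) :
    H P (orig k σ) + H Q (orig k σ) ≤ H (P ⊔ Q) (orig k σ) + (Fintype.card σ : ℕ) := by
  classical
  let cc : MvPolynomial σ k →ₐ[k] k := aeval (fun _ => 0)
  have hcc : RingHom.ker cc = orig k σ := by
    ext x
    rw [RingHom.mem_ker, constantCoeff_mem_orig, show cc x = constantCoeff x from (aeval_zero' x).trans rfl]
  let ε : (MvPolynomial σ k ⧸ P) →ₐ[k] k := Ideal.Quotient.liftₐ P cc fun a ha => by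
    rw [← RingHom.mem_ker, hcc]; exact hP ha
  let δ : (MvPolynomial σ k ⧸ Q) →ₐ[k] k := Ideal.Quotient.liftₐ Q cc fun a ha => by
    rw [← RingHom.mem_ker, hcc]; exact hQ ha
  have hker : ∀ (I : Ideal (MvPolynomial σ k)) (hI : I ≤ orig k σ) (η : (MvPolynomial σ k ⧸ I) →ₐ[k] k),
      (∀ x, η (Ideal.Quotient.mk I x) = cc x) → RingHom.ker η = (orig k σ).map (Ideal.Quotient.mk I) := by
    intro I hI η hη
    ext y
    obtain ⟨y, rfl⟩ := Ideal.Quotient.mk_surjective y
    rw [RingHom.mem_ker, hη, Ideal.mem_quotient_iff_mem hI, ← hcc, RingHom.mem_ker]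
  have h1 : RingHom.ker ε = (orig k σ).map (Ideal.Quotient.mk P) := hker P hP ε fun x => rfl
  have h2 : RingHom.ker δ = (orig k σ).map (Ideal.Quotient.mk Q) := hker Q hQ δ fun x => rfl
  set μ : (MvPolynomial σ k ⧸ P) ⊗[k] (MvPolynomial σ k ⧸ Q) →ₐ[k] k := Algebra.TensorProduct.lift ε δ (fun _ _ => Commute.all _ _) with hμ
  have key := height_tensor ε δ
  rw [h1, h2, ← hμ] at key
  refine le_trans key ?_
  haveI : (RingHom.ker μ).IsPrime := RingHom.ker_isPrime μ
  haveI : IsNoetherianRing ((MvPolynomial σ k ⧸ P) ⊗[k] (MvPolynomial σ k ⧸ Q)) :=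
    haveI : Algebra.FiniteType k ((MvPolynomial σ k ⧸ P) ⊗[k] (MvPolynomial σ k ⧸ Q)) :=
      Algebra.FiniteType.trans (S := MvPolynomial σ k ⧸ P) inferInstance inferInstance
    Algebra.FiniteType.isNoetherianRing k ((MvPolynomial σ k ⧸ P) ⊗[k] (MvPolynomial σ k ⧸ Q))
  let a : MvPolynomial σ k →ₐ[k] (MvPolynomial σ k ⧸ P) ⊗[k] (MvPolynomial σ k ⧸ Q) :=
    Algebra.TensorProduct.includeLeft.comp (Ideal.Quotient.mkₐ k P)
  let b : MvPolynomial σ k →ₐ[k] (MvPolynomial σ k ⧸ P) ⊗[k] (MvPolynomial σ k ⧸ Q) :=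
    Algebra.TensorProduct.includeRight.comp (Ideal.Quotient.mkₐ k Q)
  let d : σ → (MvPolynomial σ k ⧸ P) ⊗[k] (MvPolynomial σ k ⧸ Q) := fun i => a (X i) - b (X i)
  have hμa : ∀ x, μ (a x) = cc x := fun x => by
    show μ (Ideal.Quotient.mk P x ⊗ₜ 1) = _
    rw [hμ, Algebra.TensorProduct.lift_tmul, map_one, mul_one]; rfl
  have hμb : ∀ x, μ (b x) = cc x := fun x => by
    show μ (1 ⊗ₜ Ideal.Quotient.mk Q x) = _
    rw [hμ, Algebra.TensorProduct.lift_tmul, map_one, one_mul]; rfl
  have hdM : Set.range d ⊆ (RingHom.ker μ : Set _) := by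
    rintro _ ⟨i, rfl⟩
    rw [SetLike.mem_coe, RingHom.mem_ker, map_sub, hμa, hμb, sub_self]
  refine le_trans (Ideal.height_le_height_add_encard_of_subset (Set.range d) hdM) ?_
  refine add_le_add ?_ ?_
  swap
  · rw [← Set.image_univ]
    refine le_trans (Set.encard_image_le _ _) ?_
    rw [Set.encard_univ, ENat.card_eq_coe_fintype_card]
  set J := Ideal.span (Set.range d)
  let θ : MvPolynomial σ k →ₐ[k] ((MvPolynomial σ k ⧸ P) ⊗[k] (MvPolynomial σ k ⧸ Q)) ⧸ J := (Ideal.Quotient.mkₐ k J).comp a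
  have hθ : θ = (Ideal.Quotient.mkₐ k J).comp b := MvPolynomial.algHom_ext fun i =>
    Ideal.Quotient.eq.2 (Ideal.subset_span ⟨i, rfl⟩)
  have hkill : ∀ x ∈ P ⊔ Q, θ x = 0 := by
    intro x hx
    obtain ⟨p, hp, q, hq, rfl⟩ := Submodule.mem_sup.1 hx
    have hp' : a p = 0 := by
      show Ideal.Quotient.mk P p ⊗ₜ[k] (1 : MvPolynomial σ k ⧸ Q) = 0
      rw [Ideal.Quotient.eq_zero_iff_mem.2 hp, TensorProduct.zero_tmul]
    have hq' : b q = 0 := by
      show (1 : MvPolynomial σ k ⧸ P) ⊗ₜ[k] Ideal.Quotient.mk Q q = 0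
      rw [Ideal.Quotient.eq_zero_iff_mem.2 hq, TensorProduct.tmul_zero]
    rw [map_add]
    conv_lhs => arg 2; rw [hθ]
    show Ideal.Quotient.mkₐ k J (a p) + Ideal.Quotient.mkₐ k J (b q) = 0
    rw [hp', hq', map_zero, add_zero]
  have hsurj : Function.Surjective θ := by
    intro y
    obtain ⟨y, rfl⟩ := Ideal.Quotient.mk_surjective y
    induction y using TensorProduct.induction_on with
    | zero => exact ⟨0, by simp⟩
    | add x y hx hy =>
      obtain ⟨x', hx'⟩ := hx
      obtain ⟨y', hy'⟩ := hy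
      exact ⟨x' + y', by rw [map_add, hx', hy', map_add]⟩
    | tmul u v =>
      obtain ⟨u, rfl⟩ := Ideal.Quotient.mk_surjective u
      obtain ⟨v, rfl⟩ := Ideal.Quotient.mk_surjective v
      refine ⟨u * v, ?_⟩
      rw [map_mul]
      conv_lhs => arg 2; rw [hθ]
      show Ideal.Quotient.mkₐ k J (a u) * Ideal.Quotient.mkₐ k J (b v) = _
      rw [← map_mul]
      exact congrArg _ (by simp [a, b])
  have hJM : J ≤ RingHom.ker μ := Ideal.span_le.2 hdM
  haveI : ((RingHom.ker μ).map (Ideal.Quotient.mk J)).IsPrime := Ideal.isPrime_map_quotientMk_of_isPrime hJM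
  let g : (MvPolynomial σ k ⧸ (P ⊔ Q)) →+* ((MvPolynomial σ k ⧸ P) ⊗[k] (MvPolynomial σ k ⧸ Q)) ⧸ J := Ideal.Quotient.lift (P ⊔ Q) θ.toRingHom hkill
  have hg : Function.Surjective g := fun y => by
    obtain ⟨x, hx⟩ := hsurj y
    exact ⟨Ideal.Quotient.mk _ x, hx⟩
  refine le_trans (height_le_height_comap g hg _) (le_of_eq ?_)
  unfold H
  congr 1
  ext y
  obtain ⟨y, rfl⟩ := Ideal.Quotient.mk_surjective y
  rw [Ideal.mem_comap]
  show Ideal.Quotient.mk J (a y) ∈ _ ↔ _
  rw [Ideal.mem_quotient_iff_mem hJM, Ideal.mem_quotient_iff_mem (sup_le hP hQ), RingHom.mem_ker, hμa,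
    ← RingHom.mem_ker, hcc]

end Groth.Agent.ProjInter
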